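import Groth.Agent.Pi1.H273.ChartSec
import Groth.Agent.Pi1.H382.Trait
import Groth.Agent.CurvesA.TwoAffMain
import Groth.Agent.CurvesA.DimOne
import Groth.Agent.Picfga.CurveRelDim
import Mathlib.AlgebraicGeometry.AlgClosed.Basic
import Mathlib.AlgebraicGeometry.Noetherian

/-!
# Complements of finitely many points in curves over an algebraically closed field

`smoothOfRelativeDimension_one`, `exists_sections`: the points of a finite set `S` of closed points are
sections, pairwise distinct, contained in a common affine open; `exists_chart_field` : étale coordinate vanishing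
exactly at the points of `S` near `S`.
-/

set_option autoImplicit false
universe u

open CategoryTheory CategoryTheory.Limits AlgebraicGeometry IsLocalRing

namespace Groth.Agent.Pi1.H273.ChartField

theorem isIntegral {k : Type u} [Field k] {X : Scheme.{u}} (p : X ⟶ Spec (CommRingCat.of k)) [Smooth p]
    [ConnectedSpace X] : IsIntegral X := Groth.Agent.Pi1.H382.Trait.isIntegral_of_smooth p

/-- A connected smooth scheme of dimension `n` over a field is smooth of relative dimension `n`. -/
theorem smoothOfRelativeDimension {k : Type u} [Field k] {X : Scheme.{u}}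
    (p : X ⟶ Spec (CommRingCat.of k)) [Smooth p] [ConnectedSpace X] (n : ℕ)
    (hdim : topologicalKrullDim X = n) : SmoothOfRelativeDimension n p := by
  have := isIntegral p
  exact Groth.Agent.Picfga.CurveRelDim.smoothOfRelativeDimension_of_topologicalKrullDim_eq k X p n hdim

/-- Finitely many points of a separated locally Noetherian scheme of dimension at most one lie in an affine open. -/
theorem exists_affine {X : Scheme.{u}} [X.IsSeparated] [IsLocallyNoetherian X]
    (hdim : topologicalKrullDim X ≤ 1) (S : Set X) (hS : S.Finite) :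
    ∃ W₀ : X.Opens, IsAffineOpen W₀ ∧ S ⊆ W₀ := by
  obtain ⟨U, hU, h⟩ := Groth.Agent.CurvesA.TwoAffMain.exists_affine (X := X) hS.toFinset fun y _ =>
    ⟨inferInstance, (Groth.Agent.CurvesA.DimOne.ringKrullDim_stalk_le X y).trans hdim⟩
  exact ⟨U, hU, fun x hx => h x (hS.mem_toFinset.2 hx)⟩

variable {k : Type u} [Field k] [IsAlgClosed k] {X : Scheme.{u}} (p : X ⟶ Spec (CommRingCat.of k))

/-- Finitely many closed points as sections. -/
theorem exists_sections [LocallyOfFiniteType p] (S : Set X) (hS : S.Finite)
    (hcl : ∀ a ∈ S, IsClosed ({a} : Set X)) {n : ℕ} (hn : Nat.card S = n) :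
    ∃ s : Fin n → (Spec (CommRingCat.of k) ⟶ X), (∀ i, s i ≫ p = 𝟙 _) ∧
      (Pairwise fun i j => s i (closedPoint k) ≠ s j (closedPoint k)) ∧
      (⋃ i, Set.range (s i)) = S := by
  have := hS.to_subtype
  let e : Fin n ≃ S := (Finite.equivFinOfCardEq hn).symm
  refine ⟨fun i => pointOfClosedPoint p (e i).1 (hcl _ (e i).2), fun i => pointOfClosedPoint_comp p _ _,
    fun i j hij h => ?_, ?_⟩
  · simp only [pointOfClosedPoint_apply] at h
    exact hij (e.injective (Subtype.ext h))
  · ext x
    simp only [Set.mem_iUnion, Set.mem_range, pointOfClosedPoint_apply]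
    constructor
    · rintro ⟨i, a, rfl⟩
      exact (e i).2
    · intro hx
      exact ⟨e.symm ⟨x, hx⟩, closedPoint k, by simp⟩

/-- Étale coordinate vanishing exactly at a finite set of closed points of a smooth separated curve. -/
theorem exists_chart_field [Smooth p] [IsSeparated p] [ConnectedSpace X] (hdim : topologicalKrullDim X = 1)
    (S : Set X) (hS : S.Finite) (hcl : ∀ a ∈ S, IsClosed ({a} : Set X)) :
    ∃ (W : X.Opens) (f : Γ(W, ⊤)), IsAffineOpen W ∧ S ⊆ W ∧
      Etale (AffineSpace.homOfVector (W.ι ≫ p) (fun _ : PUnit.{u+1} => f)) ∧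
      ∀ w : (W : Scheme.{u}), w ∉ W.toScheme.basicOpen f ↔ W.ι w ∈ S := by
  have h1 : SmoothOfRelativeDimension 1 p := smoothOfRelativeDimension p 1 (by simpa using hdim)
  have hN : IsLocallyNoetherian X := LocallyOfFiniteType.isLocallyNoetherian p
  have hsep : X.IsSeparated := by
    constructor
    rw [← terminal.comp_from p]
    infer_instance
  obtain ⟨W₀, hW₀, hSW⟩ := exists_affine hdim.le S hS
  obtain ⟨s, hs, hd, hr⟩ := exists_sections p S hS hcl rfl
  have hmem : ∀ i, s i (closedPoint k) ∈ S := fun i => by
    rw [← hr]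
    exact Set.mem_iUnion.2 ⟨i, _, rfl⟩
  obtain ⟨W, f, -, hW, hsW, het, hz⟩ := ChartSec.exists_chart p s hs hd W₀ hW₀ fun i => hSW (hmem i)
  refine ⟨W, f, hW, ?_, het, fun w => by rw [hz, hr]⟩
  rw [← hr]
  exact Set.iUnion_subset hsW

end Groth.Agent.Pi1.H273.ChartField
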